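import Cfsg.Agent.Lib.Recog.SporBound.J2UTen.Data

set_option autoImplicit false
set_option maxRecDepth 20000
set_option Elab.async false

/-! Checks of the certificate, part 3. -/

namespace CfsgLib.Recog.SporBound.J2UTen
open CfsgLib.Recog.SporBound
open CfsgLib.ThreeTrans.CosetIndex (forallFrom)

theorem defs12 : forallFrom cert.defOK 18000 1500 = true := by decide +kernel

theorem defs13 : forallFrom cert.defOK 19500 875 = true := by decide +kernel

theorem steps0_0 : cert.stepsPart 0 20 = true := by decide +kernel

theorem steps0_1 : cert.stepsPart 20 20 = true := by decide +kernel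

theorem steps0_2 : cert.stepsPart 40 20 = true := by decide +kernel

theorem steps0 : cert.stepsPart 0 60 = true :=
  (Cert.stepsPart_cat (l := 60) (Cert.stepsPart_cat (l := 40) steps0_0 steps0_1 (by decide +kernel) (by decide +kernel)) steps0_2 (by decide +kernel) (by decide +kernel))

theorem steps1_0 : cert.stepsPart 60 20 = true := by decide +kernel

theorem steps1_1 : cert.stepsPart 80 20 = true := by decide +kernel

theorem steps1_2 : cert.stepsPart 100 20 = true := by decide +kernel

theorem steps1 : cert.stepsPart 60 60 = true :=
  (Cert.stepsPart_cat (l := 60) (Cert.stepsPart_cat (l := 40) steps1_0 steps1_1 (by decide +kernel) (by decide +kernel)) steps1_2 (by decide +kernel) (by decide +kernel))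

end CfsgLib.Recog.SporBound.J2UTen
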