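import Cfsg.Agent.Lib.Recog.SporBound.J2UTen.Data

set_option autoImplicit false
set_option maxRecDepth 20000
set_option Elab.async false

/-! Checks of the certificate, part 4. -/

namespace CfsgLib.Recog.SporBound.J2UTen
open CfsgLib.Recog.SporBound
open CfsgLib.ThreeTrans.CosetIndex (forallFrom)

theorem steps2_0 : cert.stepsPart 120 20 = true := by decide +kernel

theorem steps2_1 : cert.stepsPart 140 20 = true := by decide +kernel

theorem steps2_2 : cert.stepsPart 160 20 = true := by decide +kernel

theorem steps2 : cert.stepsPart 120 60 = true :=
  (Cert.stepsPart_cat (l := 60) (Cert.stepsPart_cat (l := 40) steps2_0 steps2_1 (by decide +kernel) (by decide +kernel)) steps2_2 (by decide +kernel) (by decide +kernel))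

theorem steps3_0 : cert.stepsPart 180 20 = true := by decide +kernel

theorem steps3_1 : cert.stepsPart 200 20 = true := by decide +kernel

theorem steps3_2 : cert.stepsPart 220 20 = true := by decide +kernel

theorem steps3 : cert.stepsPart 180 60 = true :=
  (Cert.stepsPart_cat (l := 60) (Cert.stepsPart_cat (l := 40) steps3_0 steps3_1 (by decide +kernel) (by decide +kernel)) steps3_2 (by decide +kernel) (by decide +kernel))

theorem steps4_0 : cert.stepsPart 240 20 = true := by decide +kernel

theorem steps4_1 : cert.stepsPart 260 20 = true := by decide +kernel

theorem steps4_2 : cert.stepsPart 280 20 = true := by decide +kernel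

theorem steps4 : cert.stepsPart 240 60 = true :=
  (Cert.stepsPart_cat (l := 60) (Cert.stepsPart_cat (l := 40) steps4_0 steps4_1 (by decide +kernel) (by decide +kernel)) steps4_2 (by decide +kernel) (by decide +kernel))

theorem steps5_0 : cert.stepsPart 300 20 = true := by decide +kernel

theorem steps5_1 : cert.stepsPart 320 20 = true := by decide +kernel

theorem steps5_2 : cert.stepsPart 340 20 = true := by decide +kernel

theorem steps5 : cert.stepsPart 300 60 = true :=
  (Cert.stepsPart_cat (l := 60) (Cert.stepsPart_cat (l := 40) steps5_0 steps5_1 (by decide +kernel) (by decide +kernel)) steps5_2 (by decide +kernel) (by decide +kernel))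

end CfsgLib.Recog.SporBound.J2UTen
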