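import Cfsg.Agent.Lib.Recog.SporBound.J2UTen.Data

set_option autoImplicit false
set_option maxRecDepth 20000
set_option Elab.async false

/-! Checks of the certificate, part 5. -/

namespace CfsgLib.Recog.SporBound.J2UTen
open CfsgLib.Recog.SporBound
open CfsgLib.ThreeTrans.CosetIndex (forallFrom)

theorem steps6_0 : cert.stepsPart 360 20 = true := by decide +kernel

theorem steps6_1 : cert.stepsPart 380 20 = true := by decide +kernel

theorem steps6_2 : cert.stepsPart 400 20 = true := by decide +kernel

theorem steps6 : cert.stepsPart 360 60 = true :=
  (Cert.stepsPart_cat (l := 60) (Cert.stepsPart_cat (l := 40) steps6_0 steps6_1 (by decide +kernel) (by decide +kernel)) steps6_2 (by decide +kernel) (by decide +kernel))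

theorem steps7_0 : cert.stepsPart 420 20 = true := by decide +kernel

theorem steps7_1 : cert.stepsPart 440 20 = true := by decide +kernel

theorem steps7_2 : cert.stepsPart 460 13 = true := by decide +kernel

theorem steps7 : cert.stepsPart 420 53 = true :=
  (Cert.stepsPart_cat (l := 53) (Cert.stepsPart_cat (l := 40) steps7_0 steps7_1 (by decide +kernel) (by decide +kernel)) steps7_2 (by decide +kernel) (by decide +kernel))

theorem finals0 : cert.finalsPart 0 1 = true := by decide +kernel

end CfsgLib.Recog.SporBound.J2UTen
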