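import Cfsg.Agent.Lib.Recog.SporBound.Sound
import Cfsg.Agent.Lib.Recog.SporBound.J2UTen.Tree0
import Cfsg.Agent.Lib.Recog.SporBound.J2UTen.Tree1
import Cfsg.Agent.Lib.Recog.SporBound.J2UTen.Tree2
import Cfsg.Agent.Lib.Recog.SporBound.J2UTen.Tree3
import Cfsg.Agent.Lib.Recog.SporBound.J2UTen.Tree4
import Cfsg.Agent.Lib.Recog.SporBound.J2UTen.Tree5
import Cfsg.Agent.Lib.Recog.SporBound.J2UTen.Tree6

set_option autoImplicit false
set_option maxRecDepth 20000

/-! Generated closure certificate: (pt)^10 = 1 forces p into C(z) (owner: lead). -/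

namespace CfsgLib.Recog.SporBound.J2UTen
open CfsgLib.Recog.SporBound

noncomputable def factTree : Q (ℕ) := (.node (.node (.node ft7 ft14 ft21 ft28) (.node ft36 ft43 ft50 ft57) (.node ft65 ft72 ft79 ft86) (.node ft93 ft100 ft107 ft114)) (.node (.node ft122 ft129 ft136 ft143) (.node ft151 ft158 ft165 ft172) (.node ft180 ft187 ft194 ft201) (.node ft208 ft215 ft222 ft229)) (.node (.node ft237 ft244 ft251 ft258) (.node ft266 ft273 ft280 ft287) (.node ft295 ft302 ft309 ft316) (.node ft323 ft330 ft337 ft344)) (.node (.node ft352 ft359 ft366 ft373) (.node ft381 ft388 ft395 ft402) (.node ft410 ft417 ft424 ft431) (.node ft438 ft445 ft452 ft459)))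
noncomputable def nodeTree : Q (ℕ) := ct0
noncomputable def stepTree : Q (List ℕ) := (.node (.node (.node st8 st17 st25 st33) (.node st42 st51 st59 st67) (.node st76 st85 st93 st101) (.node st110 st118 st126 st134)) (.node (.node st143 st152 st160 st168) (.node st177 st186 st194 st202) (.node st211 st219 st227 st235) (.node st244 st252 st260 st268)) (.node (.node st277 st286 st294 st302) (.node st311 st320 st328 st336) (.node st345 st353 st361 st369) (.node st378 st386 st394 st402)) (.node (.node st411 st420 st428 st436) (.node st445 st454 st462 st470) (.node st479 st487 st495 st503) (.node st512 st520 st528 st536)))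
noncomputable def finalTree : Q (List ℕ) := et0

/-- The certificate. -/
noncomputable def cert : Cert where
  n := 1
  nd := 20375
  nf := 50629
  kl := [0, 1, 2, 3, 4, 5, 6, 7]
  facts := factTree
  cn := nodeTree
  steps := stepTree
  finals := finalTree
  rels := [[7, 7], [3, 3], [4, 4], [6, 6], [1, 1], [5, 5], [0, 0], [2, 2], [5, 4, 5, 4], [3, 1, 3, 1, 3, 1, 3, 1, 5], [0, 3, 4, 7, 4, 3, 7, 1, 7, 1, 7, 3, 4, 7, 4, 3], [3, 4, 1, 4, 3, 1], [1, 7, 3, 4, 1, 7, 3, 4, 1, 7, 3, 4, 1, 7, 3, 4, 1, 7, 3, 4], [5, 3, 5, 3], [2, 6, 2, 0], [2, 3, 4, 2, 4, 3], [2, 5, 2, 5, 1], [2, 7, 6, 4, 2, 3, 4, 0], [6, 7, 4, 3, 7, 3, 4, 7], [2, 3, 7, 0, 3, 7, 2, 7, 3, 0, 7, 3], [5, 7, 5, 7], [2, 1, 2, 1], [7, 3, 4, 7, 3, 4, 7, 3, 4, 7, 3, 4, 7, 3, 4], [2, 7, 4, 2, 7, 4, 2, 7, 4, 2, 7, 4, 2, 7, 4, 2, 7, 4, 2, 7, 4, 2, 7, 4, 2, 7, 4, 2, 7, 4], [3, 4, 3, 4, 3, 4], [3, 7, 3, 4, 7, 4, 3, 7, 3, 4, 7, 4, 3, 7], [5, 6, 5, 6], [6, 1, 6, 1], [5, 1,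 7, 1, 7, 1, 7, 1, 7], [5, 1, 5, 1], [2, 3, 1, 3, 2, 3, 1, 3, 2, 3, 1, 3]]
  subs := [[7], [3], [4], [6], [1], [5], [0]]

/-- Chains of the traced words. -/
noncomputable def closers : List ℕ := [0xc5c4000000000200000]

end CfsgLib.Recog.SporBound.J2UTen
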